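import Groth.Agent.WtLim.Test
import Groth.Agent.LimTop.Constructible
import Groth.Agent.LimLib.Basic

/-!
# Weightings descend along limits of affine schemes
-/

universe u

open AlgebraicGeometry CategoryTheory Limits Topology

namespace Groth.Agent.WtLim

open Wt.GeomPts Wt.Split Wt.Parts Wt.Master Wt.Local

theorem ConsLC.comp {X Y : Scheme.{u}} [IsAffine Y] {w : Y → ℤ} (hw : ConsLC w) (h : X ⟶ Y)
    [QuasiCompact h] : ConsLC fun x => w (h x) :=
  fun x => ⟨h ⁻¹' {y | w y = w (h x)}, h.isConstructible_preimage (hw.isConstructible_level _),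
    rfl, fun _ hx => hx⟩

variable {I : Type u} [SmallCategory I] [IsCofiltered I] {D : I ⥤ Scheme.{u}} {c : Cone D}

/-- A constructible function which is locally constant on the limit is so at a stage. -/
theorem exists_stage_locallyConstant [∀ i, IsAffine (D.obj i)] (hc : IsLimit c) {i : I}
    (F : D.obj i → ℤ) (hF : ConsLC F) (h : IsLocallyConstant (F ∘ c.π.app i)) :
    ∃ (j : I) (φ : j ⟶ i), IsLocallyConstant (F ∘ D.map φ) := by
  have := hF.finite_range.to_subtype
  have hn : ∀ n : Set.range F, ∃ (j : I) (φ : j ⟶ i), IsOpen (D.map φ ⁻¹' {x | F x = n.1}) :=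
    fun n => LimTop.exists_isOpen_preimage hc (hF.isConstructible_level n.1) (h.isOpen_fiber n.1)
  choose j φ hj using hn
  obtain ⟨l, fl, b, hb⟩ := IsCofiltered.wideCospan φ
  refine ⟨l, fl, IsLocallyConstant.iff_isOpen_fiber.mpr fun n => ?_⟩
  by_cases hn : n ∈ Set.range F
  · convert (hj ⟨n, hn⟩).preimage (D.map (b ⟨n, hn⟩)).continuous using 1
    ext x
    show F (D.map fl x) = n ↔ F (D.map (φ _) (D.map (b _) x)) = n
    rw [← LimTop.map_comp_apply, hb]
  · convert isOpen_empty
    ext x
    exact ⟨fun hx => hn ⟨_, hx⟩, fun hx => hx.elim⟩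

/-- Constructible lift of a constructible function on the limit to a stage. -/
theorem exists_stage_function [∀ i, IsAffine (D.obj i)] (hc : IsLimit c) [IsAffine c.pt] (i₀ : I)
    (w : c.pt → ℤ) (hw : ∀ n, IsConstructible {x | w x = n}) :
    ∃ (j : I) (_ : j ⟶ i₀) (wj : D.obj j → ℤ), ConsLC wj ∧ ∀ x, wj (c.π.app j x) = w x := by
  classical
  have hlc : ConsLC w := fun x => ⟨_, hw (w x), rfl, fun _ hx => hx⟩
  let S := hlc.finite_range.toFinset
  have hn : ∀ n : (S : Set ℤ), ∃ (i : I) (_ : i ⟶ i₀) (Z : Set (D.obj i)),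
      IsConstructible Z ∧ c.π.app i ⁻¹' Z = {x | w x = n.1} :=
    fun n => LimTop.exists_isConstructible_preimage hc i₀ (hw n.1)
  choose jn φ Z hZ hZw using hn
  obtain ⟨j, fj, b, hb⟩ := IsCofiltered.wideCospan φ
  let Z' : ℤ → Set (D.obj j) := fun n =>
    if h : n ∈ (S : Set ℤ) then D.map (b ⟨n, h⟩) ⁻¹' Z ⟨n, h⟩ else ∅
  have hZ' : ∀ n, IsConstructible (Z' n) := fun n => by
    unfold Z'
    split_ifs with h
    · exact (D.map _).isConstructible_preimage (hZ _)
    · exact .empty
  refine ⟨j, fj, fun x => ∑ n ∈ S, if x ∈ Z' n then n else 0, fun x => ?_, fun x => ?_⟩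
  · refine ⟨⋂ n ∈ (S : Set ℤ), if x ∈ Z' n then Z' n else (Z' n)ᶜ,
      isConstructible_biInter S.finite_toSet fun n _ => ?_, ?_, fun x' hx' => ?_⟩
    · split_ifs
      exacts [hZ' n, (hZ' n).compl]
    · refine Set.mem_iInter₂.mpr fun n _ => ?_
      split_ifs with h <;> exact h
    · refine Finset.sum_congr rfl fun n hn => ?_
      have := Set.mem_iInter₂.mp hx' n hn
      by_cases h : x ∈ Z' n
      · rw [if_pos h] at this
        rw [if_pos h, if_pos this]
      · rw [if_neg h] at this
        rw [if_neg h, if_neg this]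
  · have hx : w x ∈ S := hlc.finite_range.mem_toFinset.mpr ⟨x, rfl⟩
    have key : ∀ n ∈ S, (c.π.app j x ∈ Z' n ↔ w x = n) := fun n hn => by
      show _ ∈ (if h : n ∈ (S : Set ℤ) then _ else _) ↔ _
      rw [dif_pos (Finset.mem_coe.mpr hn), ← Set.mem_preimage, LimTop.preimage_π, hZw]
      rfl
    show ∑ n ∈ S, (if c.π.app j x ∈ Z' n then n else 0) = w x
    rw [Finset.sum_eq_single (w x) (fun n hn hne => if_neg fun h => hne ((key n hn).mp h).symm)
      (fun h => absurd hx h), if_pos ((key _ hx).mpr rfl)]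

/-- A constructible function on a chart over a stage which is locally constant on the limit is so
at a stage. -/
theorem exists_stage_locallyConstant_bc [∀ i, IsAffine (D.obj i)] (hc : IsLimit c) {i : I}
    {V : Scheme.{u}} [IsAffine V] (g : V ⟶ D.obj i) (φ : V → ℤ) (hφ : ConsLC φ)
    (h : IsLocallyConstant (φ ∘ pullback.snd (c.π.app i) g)) :
    ∃ (k : I) (a : k ⟶ i), IsLocallyConstant (φ ∘ pullback.fst g (D.map a)) := by
  have hP : IsPullback (pullback.snd (c.π.app i) g) (pullback.fst (c.π.app i) g) g (c.π.app i) :=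
    (IsPullback.of_hasPullback _ _).flip
  let top : Over i := Over.mk (𝟙 i)
  let p : (LimLib.bcDiag D i g).obj top ⟶ V := pullback.fst g (D.map top.hom)
  have e₁ : (LimLib.bcCone hP).π.app top ≫ p = pullback.snd (c.π.app i) g := pullback.lift_fst _ _ _
  have e₁' : ∀ x, p ((LimLib.bcCone hP).π.app top x) = pullback.snd (c.π.app i) g x := fun x =>
    (Scheme.Hom.comp_apply _ _ _).symm.trans (congrArg (fun h : _ ⟶ V => h x) e₁)
  obtain ⟨m, ψ, hm⟩ := exists_stage_locallyConstant (LimLib.isLimitBcCone hc hP) (i := top)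
    (fun x => φ (p x)) (hφ.comp p)
    ((congrArg IsLocallyConstant (funext fun x => congrArg φ (e₁' x))).mpr h)
  refine ⟨m.left, m.hom, ?_⟩
  have e₂ : (LimLib.bcDiag D i g).map ψ ≫ p = pullback.fst g (D.map m.hom) := pullback.lift_fst _ _ _
  have e₂' : ∀ x, p ((LimLib.bcDiag D i g).map ψ x) = pullback.fst g (D.map m.hom) x := fun x =>
    (Scheme.Hom.comp_apply _ _ _).symm.trans (congrArg (fun h : _ ⟶ V => h x) e₂)
  exact (congrArg IsLocallyConstant (funext fun x => congrArg φ (e₂' x))).mp hm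

/-- The fibre integral on a part of a chart of a stage is, on the limit, one of a weighting. -/
theorem isLocallyConstant_integral {X₁ Y₁ X S : Scheme.{u}} {f₁ : X₁ ⟶ Y₁} [IsAffine X₁]
    [IsAffine Y₁] [LocallyOfFinitePresentation f₁] [LocallyQuasiFinite f₁]
    {πX : X ⟶ X₁} {f : X ⟶ S} {π : S ⟶ Y₁} (hX : IsPullback πX f f₁ π) {w : X → ℤ}
    (hw : MoreMor.IsWeighting f w) {w₁ : X₁ → ℤ} (hw₁ : ∀ x, w₁ (πX x) = w x) {y : Y₁}
    (c : Chart f₁ y) (z : ↥(pullback f₁ c.g)) (hz : pullback.snd f₁ c.g z = c.u) :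
    IsLocallyConstant (c.integral w₁ z ∘ pullback.snd π c.g) := by
  have := c.etale
  let g' := pullback.fst π c.g
  let sP := pullback.snd π c.g
  let q := pullback.snd f g'
  let a : pullback f g' ⟶ pullback f₁ c.g :=
    pullback.lift (pullback.fst f g' ≫ πX) (q ≫ sP) (by
      rw [Category.assoc, hX.w, pullback.condition_assoc, Category.assoc]
      exact congrArg (q ≫ ·) pullback.condition)
  have ha : IsPullback a q (pullback.snd f₁ c.g) sP := by
    refine IsPullback.of_right (h₁₂ := pullback.fst f₁ c.g) (v₁₃ := f₁) (h₂₂ := c.g) ?_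
      (pullback.lift_snd _ _ _) (IsPullback.of_hasPullback _ _)
    rw [pullback.lift_fst, show sP ≫ c.g = g' ≫ π from pullback.condition.symm]
    exact (IsPullback.of_hasPullback f g').paste_horiz hX
  have hU := isFinite_preimage sP ha _ (c.finite z hz)
  have : LocallyQuasiFinite f := MorphismProperty.of_isPullback hX inferInstance
  have : LocallyQuasiFinite q := inferInstance
  convert hw _ g' (a ⁻¹ᵁ c.W z) hU using 1
  funext v
  obtain ⟨yb, hyb⟩ := exists_geomPt v
  show c.integral w₁ z (sP v) = _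
  conv_rhs => rw [← hyb]
  rw [← geomSum_eq_fibreIntegral q _ hU (fun p => w (pullback.fst f g' p))]
  refine Eq.trans ?_ (Eq.trans (geomSum_preimage _ ha (c.W z : Set _)
    (fun p => w₁ (pullback.fst f₁ c.g p)) yb).symm ?_)
  · rw [geomSum_eq_fibreIntegral _ _ (c.finite z hz), pt_comp, hyb]
    rfl
  · congr 1
    funext p
    show w₁ (pullback.fst f₁ c.g (a p)) = w (pullback.fst f g' p)
    rw [← hw₁, ← Scheme.Hom.comp_apply, pullback.lift_fst]
    rfl

/-- Weightings descend along limits of affine schemes. -/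
theorem exists_weighting_stage [∀ i, IsAffine (D.obj i)] (hc : IsLimit c) (i₀ : I)
    {X₀ X : Scheme.{u}} [IsAffine X₀] (f₀ : X₀ ⟶ D.obj i₀) [LocallyQuasiFinite f₀]
    [LocallyOfFinitePresentation f₀] {f : X ⟶ c.pt} {pX : X ⟶ X₀}
    (hX : IsPullback pX f f₀ (c.π.app i₀)) {w : X → ℤ} (hw : MoreMor.IsWeighting f w) :
    ∃ (i : I) (a : i ⟶ i₀) (Xi : Scheme.{u}) (fi : Xi ⟶ D.obj i) (pXi : Xi ⟶ X₀) (g : X ⟶ Xi)
      (wi : Xi → ℤ), IsPullback pXi fi f₀ (D.map a) ∧ g ≫ fi = f ≫ c.π.app i ∧ g ≫ pXi = pX ∧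
      MoreMor.IsWeighting fi wi ∧ ∀ x : X, wi (g x) = w x := by
  have : IsAffineHom (c.π.app i₀) := isAffineHom_π_app _ _ hc i₀
  have : IsAffine c.pt := isAffine_of_isAffineHom (c.π.app i₀)
  have : IsAffineHom pX := MorphismProperty.of_isPullback hX.flip inferInstance
  have : IsAffine X := isAffine_of_isAffineHom pX
  have : IsAffine (LimLib.bcCone hX).pt := ‹IsAffine X›
  have : LocallyQuasiFinite f := MorphismProperty.of_isPullback hX inferInstance
  have : LocallyOfFiniteType f := MorphismProperty.of_isPullback hX inferInstance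
  -- a constructible function at a stage
  obtain ⟨j, -, wj, hwj, hwjw⟩ := exists_stage_function (LimLib.isLimitBcCone hc hX)
    (Over.mk (𝟙 i₀)) w fun n => (Wt.Constr.isLocallyConstructible_level f hw n).isConstructible
  let X₁ := pullback f₀ (D.map j.hom)
  let f₁ : X₁ ⟶ D.obj j.left := pullback.snd f₀ (D.map j.hom)
  let πX : X ⟶ X₁ := (LimLib.bcCone hX).π.app j
  have : IsAffine X₁ := inferInstanceAs (IsAffine ((LimLib.bcDiag D i₀ f₀).obj j))
  have hXj : IsPullback πX f f₁ (c.π.app j.left) := LimLib.isPullback_bcCone hX j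
  -- finitely many test charts
  choose ch hch using fun y : D.obj j.left =>
    (⟨Classical.choice (nonempty_chart f₁ y), trivial⟩ : ∃ _ : Chart f₁ y, True)
  have hchA := fun y => (ch y).affine
  have hchE := fun y => (ch y).etale
  obtain ⟨s, hs⟩ := exists_finset_cover (fun y => (ch y).g '' (ch y).C)
    (fun y => (ch y).g.isConstructible_image (ch y).constructible)
    (fun y => ⟨(ch y).u, (ch y).mem_C, (ch y).map_u⟩)
  let T := Σ y : s, {z // pullback.snd f₁ (ch y.1).g z = (ch y.1).u}
  have : ∀ y : s, Finite {z // pullback.snd f₁ (ch y.1).g z = (ch y.1).u} := fun y =>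
    ((pullback.snd f₁ (ch y.1).g).finite_preimage_singleton (ch y.1).u).to_subtype
  -- local constancy of the test functions at a stage
  have key : ∀ t : T, ∃ (i : I) (φ : i ⟶ j.left), IsLocallyConstant
      ((ch t.1.1).integral wj t.2.1 ∘ pullback.fst (ch t.1.1).g (D.map φ)) := fun t => by
    let cy := ch t.1.1
    let φz := cy.integral wj t.2.1
    let sP := pullback.snd (c.π.app j.left) cy.g
    have hφ : ConsLC φz := by
      let q := pullback.snd f₁ cy.g
      have : IsFinite ((cy.W t.2.1).ι ≫ q) := cy.finite _ t.2.2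
      have : IsAffine (cy.W t.2.1).toScheme := isAffine_of_isAffineHom ((cy.W t.2.1).ι ≫ q)
      exact consLC_fibreIntegral ((cy.W t.2.1).ι ≫ q)
        (hwj.comp ((cy.W t.2.1).ι ≫ pullback.fst f₁ cy.g))
    have hloc : IsLocallyConstant (φz ∘ sP) :=
      isLocallyConstant_integral hXj hw hwjw cy t.2.1 t.2.2
    exact exists_stage_locallyConstant_bc hc cy.g φz hφ hloc
  choose m φ hm using key
  obtain ⟨l, fl, b, hb⟩ := IsCofiltered.wideCospan φ
  let a := fl ≫ j.hom
  let π' : pullback f₀ (D.map a) ⟶ X₁ := pullback.lift (pullback.fst _ _)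
    (pullback.snd f₀ (D.map a) ≫ D.map fl) (by
      rw [Category.assoc, ← D.map_comp, pullback.condition])
  have hπ' : IsPullback π' (pullback.snd f₀ (D.map a)) f₁ (D.map fl) := by
    refine IsPullback.of_right (h₁₂ := pullback.fst f₀ (D.map j.hom)) (v₁₃ := f₀)
      (h₂₂ := D.map j.hom) ?_ (pullback.lift_snd _ _ _) (IsPullback.of_hasPullback _ _)
    rw [pullback.lift_fst, ← D.map_comp]
    exact IsPullback.of_hasPullback _ _
  let g : X ⟶ pullback f₀ (D.map a) := pullback.lift pX (f ≫ c.π.app l) (by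
    rw [Category.assoc, c.w, hX.w])
  refine ⟨l, a, _, pullback.snd f₀ (D.map a), pullback.fst f₀ (D.map a), g, wj ∘ π',
    IsPullback.of_hasPullback _ _, pullback.lift_snd _ _ _, pullback.lift_fst _ _ _,
    isWeighting_of_charts hπ' wj (fun y : s => ch y.1) ?_ ?_, fun x => ?_⟩
  · intro y
    obtain ⟨y', hy', h⟩ := hs y
    exact ⟨⟨y', hy'⟩, h⟩
  · intro y z hz
    let cy := ch y.1
    let t : T := ⟨y, z, hz⟩
    let r : pullback (D.map fl) cy.g ⟶ pullback cy.g (D.map (φ t)) :=
      pullback.lift (pullback.snd _ _) (pullback.fst _ _ ≫ D.map (b t)) (by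
        rw [Category.assoc, ← D.map_comp, hb, pullback.condition])
    have e : cy.integral wj z ∘ pullback.snd (D.map fl) cy.g =
        (cy.integral wj z ∘ pullback.fst cy.g (D.map (φ t))) ∘ r := by
      funext x
      show _ = cy.integral wj z ((r ≫ pullback.fst cy.g (D.map (φ t))) x)
      rw [pullback.lift_fst]
      rfl
    rw [e]
    exact (hm t).comp_continuous r.continuous
  · have hfl : c.π.app l ≫ D.map fl = c.π.app j.left := c.w fl
    have e : g ≫ π' = pullback.lift pX (f ≫ c.π.app j.left)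
        (by rw [Category.assoc, c.w, hX.w]) := by
      apply pullback.hom_ext <;> simp only [g, π', Category.assoc, pullback.lift_fst, pullback.lift_snd, pullback.lift_snd_assoc, ← hfl]
    exact (congrArg (fun h : X ⟶ X₁ => wj (h x)) e).trans (hwjw x)

end Groth.Agent.WtLim
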