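import Groth.Agent.Wt.ConstrInt
import Groth.Agent.Wt.Decomp

/-!
# Test charts for weightings of quasi-finite morphisms of affine schemes

Around each point of the base there is an etale chart with a constructible set on which the fibres
decompose into finite parts with one geometric point; fibre integrals of constructible functions
are constructible.
-/

universe u

open AlgebraicGeometry CategoryTheory Limits Topology

namespace Groth.Agent.WtLim

open Wt.GeomPts Wt.Split Wt.Parts Wt.Master Wt.Local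

variable {X Y : Scheme.{u}}

/-- Locally constant for the constructible topology. -/
def ConsLC {α : Type*} [TopologicalSpace α] (w : α → ℤ) : Prop :=
  ∀ x, ∃ C : Set α, IsConstructible C ∧ x ∈ C ∧ ∀ x' ∈ C, w x' = w x

theorem ConsLC.isConstructible_level [IsAffine X] {w : X → ℤ} (hw : ConsLC w) (n : ℤ) :
    IsConstructible {x | w x = n} := by
  have key : ∀ P : ℤ → Prop, IsOpen[constructibleTopology X] {x : X | P (w x)} := fun P => by
    refine (@isOpen_iff_forall_mem_open _ (constructibleTopology X) _).mpr fun x hxP => ?_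
    obtain ⟨C, hC, hxC, hCw⟩ := hw x
    exact ⟨C, fun x' hx' => by show P _; rw [hCw x' hx']; exact hxP,
      (SpecTop.isClopen_cons_of_isConstructible hC).2, hxC⟩
  exact SpecTop.isConstructible_of_isClopen_cons
    ⟨@IsClosed.mk _ (constructibleTopology X) _ (key (· ≠ n)), key (· = n)⟩

theorem exists_finset_cover [IsAffine X] (C : X → Set X) (hC : ∀ x, IsConstructible (C x))
    (hx : ∀ x, x ∈ C x) : ∃ s : Finset X, ∀ x, ∃ a ∈ s, x ∈ C a := by
  obtain ⟨s, hs⟩ := @IsCompact.elim_finite_subcover X (constructibleTopology X) Set.univ X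
    (@isCompact_univ _ (constructibleTopology _) (SpecTop.compactSpace_cons _)) C
    (fun x => (SpecTop.isClopen_cons_of_isConstructible (hC x)).2)
    (fun x _ => Set.mem_iUnion.mpr ⟨x, hx x⟩)
  exact ⟨s, fun x => by simpa using hs (Set.mem_univ x)⟩

theorem ConsLC.finite_range [IsAffine X] {w : X → ℤ} (hw : ConsLC w) :
    (Set.range w).Finite := by
  choose C hC hx hCw using hw
  obtain ⟨s, hs⟩ := exists_finset_cover C hC hx
  refine (s.finite_toSet.image w).subset ?_
  rintro _ ⟨x, rfl⟩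
  obtain ⟨a, ha, hxa⟩ := hs x
  exact ⟨a, ha, (hCw a x hxa).symm⟩

theorem isConstructible_biInter {α ι : Type*} [TopologicalSpace α] {s : Set ι} (hs : s.Finite)
    {f : ι → Set α} (h : ∀ i ∈ s, IsConstructible (f i)) : IsConstructible (⋂ i ∈ s, f i) := by
  induction s, hs using Set.Finite.induction_on with
  | empty => simp
  | @insert a s _ _ ih =>
    rw [Set.biInter_insert]
    exact (h a (Set.mem_insert _ _)).inter (ih fun i hi => h i (Set.mem_insert_of_mem _ hi))

/-- An etale chart at a point of the base testing weightings on a constructible set. -/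
structure Chart (f : X ⟶ Y) (y : Y) where
  V : Scheme.{u}
  g : V ⟶ Y
  u : V
  affine : IsAffine V
  etale : Etale g
  map_u : g u = y
  W : ↥(pullback f g) → (pullback f g).Opens
  finite : ∀ z, pullback.snd f g z = u → IsFinite ((W z).ι ≫ pullback.snd f g)
  mem : ∀ z, pullback.snd f g z = u → z ∈ W z
  C : Set V
  constructible : IsConstructible C
  mem_C : u ∈ C
  cover : ∀ n ∈ C, ∀ x, pullback.snd f g x = n → ∃ z, pullback.snd f g z = u ∧ x ∈ W z
  single : ∀ z, pullback.snd f g z = u → ∀ (K : Type u) [Field K] [IsAlgClosed K]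
    (yb : Spec (CommRingCat.of K) ⟶ V), pt yb ∈ C →
      Subsingleton (GeomFib ((W z).ι ≫ pullback.snd f g) yb)
  disj : ∀ z z', pullback.snd f g z = u → pullback.snd f g z' = u → z ≠ z' →
    ∀ x ∈ W z, pullback.snd f g x ∈ C → x ∉ W z'

theorem nonempty_chart [IsAffine X] [IsAffine Y] (f : X ⟶ Y) [LocallyOfFinitePresentation f]
    [LocallyQuasiFinite f] (y : Y) : Nonempty (Chart f y) := by
  obtain ⟨V₁, g₁, u₁, hg₁, hu₁, J₁, W₁, -, hJW, hmem⟩ :=
    Groth.Agent.Wt.Pure.exists_pureParts f y (f ⁻¹' {y}) (f.finite_preimage_singleton _)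
      (fun _ h => h) (fun x _ => f.quasiFiniteAt x)
  obtain ⟨N, hN, huN, -⟩ := exists_isAffineOpen_mem_and_subset (x := u₁)
    (U := (⊤ : V₁.Opens)) trivial
  have : IsAffine N.toScheme := hN
  let g : N.toScheme ⟶ Y := N.ι ≫ g₁
  let u : N.toScheme := ⟨u₁, huN⟩
  let q := pullback.snd f g
  let a := bcMap f N.ι (g := g₁) (g' := g) rfl
  have h : IsPullback a q (pullback.snd f g₁) N.ι := isPullback_bcMap f N.ι rfl
  have : IsOpenImmersion a := MorphismProperty.of_isPullback h.flip inferInstance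
  have : IsAffine (pullback f g) := inferInstance
  have hqa : ∀ z, pullback.snd f g₁ (a z) = N.ι (q z) := fun z => by
    rw [← Scheme.Hom.comp_apply, h.w, Scheme.Hom.comp_apply]
  have hJ : ∀ z, q z = u → a z ∈ J₁ := fun z hz => hmem _ (by rw [hqa, hz]; rfl) (by
    show f _ = y
    rw [← Scheme.Hom.comp_apply, pullback.condition, Scheme.Hom.comp_apply, hqa, hz]
    exact hu₁)
  let W := fun z => a ⁻¹ᵁ W₁ (a z)
  have hfinW : ∀ z, q z = u → IsFinite ((W z).ι ≫ q) := fun z hz =>
    isFinite_preimage N.ι h _ (hJW _ (hJ z hz)).1.finite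
  have hmemW : ∀ z, q z = u → z ∈ W z := fun z hz => (hJW _ (hJ z hz)).1.mem
  have huniq : ∀ z, q z = u → ∀ x ∈ W z, q x = u → x = z := fun z hz x hx hxu =>
    a.isOpenEmbedding.injective ((hJW _ (hJ z hz)).1.unique _ hx (by rw [hqa, hxu]; rfl))
  have hJfin : (q ⁻¹' {u}).Finite := q.finite_preimage_singleton u
  have hS : ∀ z ∈ q ⁻¹' {u}, ∃ S : Set N.toScheme, IsConstructible S ∧ u ∈ S ∧
      ∀ (K : Type u) [Field K] [IsAlgClosed K] (yb : Spec (CommRingCat.of K) ⟶ N.toScheme),
        pt yb ∈ S → Subsingleton (GeomFib ((W z).ι ≫ q) yb) := fun z (hz : q z = u) => by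
    have := hfinW z hz
    refine Wt.Constr.exists_constructible_single ((W z).ι ≫ q) u ⟨z, hmemW z hz⟩ hz
      (fun x hx => Subtype.ext (huniq z hz x.1 x.2 hx)) fun K _ _ b₁ b₂ hb₁ hb₂ hb => ?_
    rw [← cancel_mono ((W z).ι ≫ a)]
    refine (hJW _ (hJ z hz)).2.1 K _ _ ?_ ?_ ?_
    · rw [pt_comp, hb₁]; rfl
    · rw [pt_comp, hb₂]; rfl
    · simp only [Category.assoc, h.w]
      simpa only [Category.assoc] using congrArg (· ≫ N.ι) hb
  choose! S hSc huS hS1 using hS
  have hcont := SpecTop.continuous_cons_of_isSpectralMap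
    (quasiCompact_iff_isSpectralMap.mp (inferInstance : QuasiCompact q))
  have hWc : ∀ z, q z = u → IsCompact (W z : Set ↥(pullback f g)) := fun z hz => by
    have := hfinW z hz
    have : IsAffine (W z).toScheme := isAffine_of_isAffineHom ((W z).ι ≫ q)
    exact isCompact_iff_compactSpace.mpr (inferInstanceAs (CompactSpace (W z).toScheme))
  let E₁ : Set ↥(pullback f g) := (⋃ z ∈ q ⁻¹' {u}, (W z : Set _))ᶜ
  let B : Set N.toScheme := (q '' E₁ ∪ ⋃ z ∈ q ⁻¹' {u}, (S z)ᶜ) ∪
    ⋃ z ∈ q ⁻¹' {u}, ⋃ z' ∈ q ⁻¹' {u}, ⋃ _ : z ≠ z', q '' ((W z : Set _) ∩ W z')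
  have hB : IsClosed[constructibleTopology N.toScheme] B := by
    refine @Wt.ConstrInt.isClosed_bad _ _ (constructibleTopology N.toScheme) _ hJfin _ _ ?_
      fun z hz z' hz' => ?_
    · exact @IsClosed.union _ _ _ (constructibleTopology N.toScheme)
        (SpecTop.isClosed_cons_image hcont (SpecTop.isClosed_cons_of_isClosed
          (isOpen_biUnion fun z _ => (W z).2).isClosed_compl))
        (@Set.Finite.isClosed_biUnion _ _ (constructibleTopology N.toScheme) _ _ hJfin
          fun z hz => (@isClosed_compl_iff _ (constructibleTopology N.toScheme) _).mpr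
            (SpecTop.isClopen_cons_of_isConstructible (hSc z hz)).2)
    · exact SpecTop.isClosed_cons_image hcont (SpecTop.isClosed_cons_of_compactOpen
        ((W z).2.inter (W z').2)
        (QuasiSeparatedSpace.inter_isCompact _ _ (W z).2 (hWc z hz) (W z').2 (hWc z' hz')))
  have huB : u ∉ B := by
    rintro ((⟨p, hp, hpu⟩ | h) | h)
    · exact hp (Set.mem_biUnion (show p ∈ q ⁻¹' {u} from hpu) (hmemW p hpu))
    · simp only [Set.mem_iUnion] at h
      obtain ⟨z, hz, hzS⟩ := h
      exact hzS (huS z hz)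
    · simp only [Set.mem_iUnion] at h
      obtain ⟨z, hz, z', hz', hne, p, ⟨hp, hp'⟩, hpu⟩ := h
      exact hne ((huniq z hz p hp hpu).symm.trans (huniq z' hz' p hp' hpu))
  obtain ⟨C, hC, huC, hCs⟩ := FDesc.ProConsImage.exists_isConstructible_subset
    ((@isOpen_compl_iff _ _ (constructibleTopology _)).mpr hB) (x := u) huB
  refine ⟨⟨N.toScheme, g, u, hN, inferInstance, hu₁, W, hfinW, hmemW, C, hC, huC,
    fun n hn x hx => ?_, fun z hz K _ _ yb hyb => hS1 z hz K yb ?_,
    fun z z' hz hz' hne x hx hxC hx' => hCs hxC (Or.inr ?_)⟩⟩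
  · by_contra hcon
    refine hCs hn (Or.inl (Or.inl ⟨x, fun hx' => hcon ?_, hx⟩))
    simp only [Set.mem_iUnion] at hx'
    obtain ⟨z, hz, hxz⟩ := hx'
    exact ⟨z, hz, hxz⟩
  · by_contra hcon
    refine hCs hyb (Or.inl (Or.inr ?_))
    simp only [Set.mem_iUnion]
    exact ⟨z, hz, hcon⟩
  · simp only [Set.mem_iUnion]
    exact ⟨z, hz, z', hz', hne, x, ⟨hx, hx'⟩, rfl⟩

/-- Fibre integrals of constructible functions are constructible. -/
theorem consLC_fibreIntegral [IsAffine X] [IsAffine Y] (f : X ⟶ Y) [LocallyOfFinitePresentation f]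
    [LocallyQuasiFinite f] {w : X → ℤ} (hw : ConsLC w) :
    ConsLC (MoreMor.fibreIntegral f w) := by
  intro y
  obtain ⟨c⟩ := nonempty_chart f y
  have := c.affine
  have := c.etale
  let q := pullback.snd f c.g
  let J := q ⁻¹' {c.u}
  have hJ : J.Finite := q.finite_preimage_singleton c.u
  let w' := fun p => w (pullback.fst f c.g p)
  let S := fun z => ((c.W z).ι ≫ q) '' (((c.W z).ι ≫ pullback.fst f c.g) ⁻¹' {x | w x = w' z})
  have hS : ∀ z ∈ J, IsConstructible (S z) := fun z hz => by
    have := c.finite z hz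
    have : IsAffine (c.W z).toScheme := isAffine_of_isAffineHom ((c.W z).ι ≫ q)
    exact ((c.W z).ι ≫ q).isConstructible_image
      (((c.W z).ι ≫ pullback.fst f c.g).isConstructible_preimage (hw.isConstructible_level _))
  let C := c.C ∩ ⋂ z ∈ J, S z
  have key : ∀ n ∈ C, MoreMor.fibreIntegral f w (c.g n) = ∑ᶠ z ∈ J, w' z := fun n hn => by
    obtain ⟨yb, hyb⟩ := exists_geomPt n
    obtain ⟨hF, hI⟩ := Wt.ConstrInt.fibreIntegral_eq_geomInt f w c.g yb
    rw [← hyb, hI, ← geomSum_univ]
    have hsub : ∀ z ∈ J, geomSum q (c.W z) w' yb = w' z := fun z hz => by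
      have := c.finite z hz
      have := c.single z hz _ yb (hyb.symm ▸ hn.1)
      have hnS := Set.mem_iInter₂.mp hn.2 z hz
      obtain ⟨p, hp, hpn⟩ := hnS
      obtain ⟨e, he⟩ := surjective_pt ((c.W z).ι ≫ q) yb ⟨p, hpn.trans hyb.symm⟩
      rw [← geomInt_open q (c.W z) w' yb]
      unfold geomInt
      rw [finsum_eq_single _ e fun e' he' => absurd (Subsingleton.elim e' e) he']
      have he' : pt e.1 = p := congrArg Subtype.val he
      rw [he']
      exact hp
    have hset : {x : GeomFib q yb | pt x.1 ∈ (Set.univ : Set ↥(pullback f c.g))} =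
        ⋃ z ∈ J, {x : GeomFib q yb | pt x.1 ∈ (c.W z : Set _)} := by
      ext x
      simp only [Set.mem_univ, Set.mem_ofPred_eq, Set.mem_iUnion, true_iff]
      obtain ⟨z, hz, hxz⟩ := c.cover n hn.1 (pt x.1) ((apply_pt q yb x).trans hyb)
      exact ⟨z, hz, hxz⟩
    unfold geomSum
    rw [hset]
    refine (finsum_mem_biUnion ?_ hJ fun z _ => Set.toFinite _).trans
      (finsum_mem_congr rfl hsub)
    intro z hz z' hz' hne
    rw [Function.onFun, Set.disjoint_left]
    intro x hx hx'
    exact c.disj z z' hz hz' hne _ hx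
      (show q (pt x.1) ∈ c.C by rw [apply_pt q yb x, hyb]; exact hn.1) hx'
  have huC : c.u ∈ C := ⟨c.mem_C, Set.mem_iInter₂.mpr fun z hz =>
    ⟨⟨z, c.mem z hz⟩, rfl, hz⟩⟩
  refine ⟨c.g '' C, c.g.isConstructible_image (c.constructible.inter (isConstructible_biInter hJ hS)),
    ⟨c.u, huC, c.map_u⟩, ?_⟩
  rintro _ ⟨n, hn, rfl⟩
  exact (key n hn).trans ((key _ huC).symm.trans (congrArg _ c.map_u))

end Groth.Agent.WtLim
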