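import Groth.Agent.WtLim.Chart

/-!
# The chart criterion for weightings
-/

universe u

open AlgebraicGeometry CategoryTheory Limits Topology

namespace Groth.Agent.WtLim

open Wt.GeomPts Wt.Split Wt.Parts Wt.Master Wt.Local

variable {X Y X' Y' : Scheme.{u}}

/-- The fibre integral of `w` on a finite part of a chart. -/
noncomputable def Chart.integral {f : X ⟶ Y} {y : Y} (c : Chart f y) (w : X → ℤ)
    (z : ↥(pullback f c.g)) (v : c.V) : ℤ :=
  MoreMor.fibreIntegral ((c.W z).ι ≫ pullback.snd f c.g)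
    (fun p => w (pullback.fst f c.g ((c.W z).ι p))) v

/-- A function is a weighting of a base change as soon as its fibre integrals on the parts of a
covering family of charts are locally constant. -/
theorem isWeighting_of_charts {f : X ⟶ Y} [LocallyOfFiniteType f] [LocallyQuasiFinite f]
    {h : X' ⟶ X} {f' : X' ⟶ Y'} {b : Y' ⟶ Y} (hc : IsPullback h f' f b) (w : X → ℤ)
    {ι : Type*} {ys : ι → Y} (c : ∀ k, Chart f (ys k))
    (hcov : ∀ y, ∃ k, y ∈ (c k).g '' (c k).C)
    (hloc : ∀ k z, pullback.snd f (c k).g z = (c k).u →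
      IsLocallyConstant ((c k).integral w z ∘ pullback.snd b (c k).g)) :
    MoreMor.IsWeighting f' (w ∘ h) := by
  intro V g _ U hU
  refine Wt.Apply.isLocallyConstant_fibreIntegral _ U hU
    (fun p => w (h (pullback.fst f' g p))) fun t => ?_
  let q₀ := pullback.snd f' g
  have sq : IsPullback (pullback.fst f' g ≫ h) q₀ f (g ≫ b) :=
    ((IsPullback.of_hasPullback f' g).flip.paste_vert hc.flip).flip
  obtain ⟨k, v, hvC, hv⟩ := hcov ((g ≫ b) t)
  have := (c k).etale
  let gk := (c k).g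
  let qk := pullback.snd f gk
  obtain ⟨p, hp₁, hp₂⟩ :=
    Scheme.Pullback.exists_preimage_pullback (f := g ≫ b) (g := gk) t v hv.symm
  let s' := pullback.fst (g ≫ b) gk
  let s'' := pullback.snd (g ≫ b) gk
  let r : pullback (g ≫ b) gk ⟶ pullback b gk := pullback.lift (s' ≫ g) s'' (by
    rw [Category.assoc]; exact pullback.condition)
  let a' := pullback.fst q₀ s'
  let q' := pullback.snd q₀ s'
  have h' : IsPullback a' q' q₀ s' := IsPullback.of_hasPullback _ _
  let a₁ : pullback q₀ s' ⟶ pullback f gk :=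
    pullback.lift (a' ≫ pullback.fst f' g ≫ h) (q' ≫ s'') (by
      rw [Category.assoc, sq.w, reassoc_of% h'.w, Category.assoc]
      exact congrArg (q' ≫ ·) pullback.condition)
  have h₁ : IsPullback a₁ q' qk s'' := by
    refine IsPullback.of_right (h₁₂ := pullback.fst f gk) (v₁₃ := f) (h₂₂ := gk) ?_
      (pullback.lift_snd _ _ _) (IsPullback.of_hasPullback _ _)
    rw [pullback.lift_fst, show s'' ≫ gk = s' ≫ g ≫ b from pullback.condition.symm]
    exact h'.paste_horiz sq
  have : LocallyQuasiFinite qk := inferInstance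
  have : LocallyQuasiFinite q' := MorphismProperty.of_isPullback h₁ this
  let U' := a' ⁻¹ᵁ U
  have hU' : IsFinite (U'.ι ≫ q') := isFinite_preimage s' h' U hU
  let F := (U' : Set ↥(pullback q₀ s')) ∩ q' ⁻¹' {p}
  have hF : F.Finite := finite_fibre_open q' U' hU' p
  have hex : ∀ x, ∃ z, x ∈ F → qk z = (c k).u ∧ a₁ x ∈ (c k).W z := fun x => by
    by_cases hx : x ∈ F
    swap
    · exact ⟨a₁ x, fun h => absurd h hx⟩
    refine ((c k).cover v hvC (a₁ x) ?_).imp fun z hz _ => hz
    show qk (a₁ x) = v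
    rw [← Scheme.Hom.comp_apply, h₁.w, Scheme.Hom.comp_apply, hx.2]
    exact hp₂
  choose zz hzz' using hex
  have hzz := fun x hx => (hzz' x hx).1
  have hxW := fun x hx => (hzz' x hx).2
  let W' := fun x => a₁ ⁻¹ᵁ (c k).W (zz x)
  have hW' : ∀ x ∈ F, IsFinite ((W' x).ι ≫ q') := fun x hx =>
    isFinite_preimage s'' h₁ _ ((c k).finite _ (hzz x hx))
  have hfib : ∀ x ∈ F, ∀ x' ∈ W' x, q' x' = p → x' = x := fun x hx x' hx' hxp => by
    obtain ⟨yb, hyb⟩ := exists_geomPt p
    have := (c k).single _ (hzz x hx) _ (yb ≫ s'') (by rw [pt_comp, hyb, hp₂]; exact hvC)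
    have key : ∀ x₀ : ↥(pullback q₀ s'), a₁ x₀ ∈ (c k).W (zz x) → q' x₀ = p →
        ∃ e : GeomFib q' yb, pt e.1 = x₀ ∧
          pt (baseChangeEquiv qk h₁ yb e).1 ∈ (c k).W (zz x) := fun x₀ h₀ h₀p => by
      obtain ⟨e, he⟩ := surjective_pt q' yb ⟨x₀, h₀p.trans hyb.symm⟩
      have he' : pt e.1 = x₀ := congrArg Subtype.val he
      refine ⟨e, he', ?_⟩
      show pt (e.1 ≫ a₁) ∈ _
      rw [pt_comp, he']
      exact h₀
    obtain ⟨e, he, heW⟩ := key x (hxW x hx) hx.2
    obtain ⟨e', he', he'W⟩ := key x' hx' hxp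
    have := Subsingleton.elim ((openEquiv qk ((c k).W (zz x)) _).symm ⟨_, heW⟩)
      ((openEquiv qk ((c k).W (zz x)) _).symm ⟨_, he'W⟩)
    rw [EmbeddingLike.apply_eq_iff_eq, Subtype.mk.injEq, EmbeddingLike.apply_eq_iff_eq] at this
    rw [← he, ← he', this]
  have ev₁ := Wt.Decomp.eventually_decompose q' U' hU' p W' hW'
    (fun x hx => hxW x hx) hfib
  have hconst : ∀ x ∈ F, ∃ e : ℤ, ∀ᶠ n in 𝓝 p, ∀ (K : Type u) [Field K] [IsAlgClosed K]
      (y : Spec (CommRingCat.of K) ⟶ pullback (g ≫ b) gk), pt y = n →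
        geomSum q' (W' x) (fun a => w (pullback.fst f gk (a₁ a))) y = e := fun x hx => by
    have hlc : IsLocallyConstant ((c k).integral w (zz x) ∘ s'') := by
      have e : (c k).integral w (zz x) ∘ s'' =
          ((c k).integral w (zz x) ∘ pullback.snd b gk) ∘ r := by
        funext n
        show _ = (c k).integral w (zz x) ((r ≫ pullback.snd b gk) n)
        rw [pullback.lift_snd]
        rfl
      rw [e]
      exact (hloc k _ (hzz x hx)).comp_continuous r.continuous
    refine ⟨(c k).integral w (zz x) (s'' p), (hlc.eventually_eq p).mono fun n hn K _ _ y hy => ?_⟩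
    refine (geomSum_preimage _ h₁ ((c k).W (zz x) : Set _) (fun a => w (pullback.fst f gk a)) y).trans ?_
    rw [geomSum_eq_fibreIntegral qk _ ((c k).finite _ (hzz x hx)), pt_comp, hy]
    exact hn
  choose! e he using hconst
  obtain ⟨N₁, hN₁, hN₁o, hpN₁⟩ := mem_nhds_iff.mp (ev₁.and (hF.eventually_all.mpr he))
  refine ⟨⟨s' '' N₁, s'.isOpenMap N₁ hN₁o⟩, ⟨p, hpN₁, hp₁⟩, ∑ᶠ x ∈ F, e x, fun K _ _ y hy => ?_⟩
  obtain ⟨n, hn, hny⟩ := hy
  have := locallyQuasiFinite_of_etale s'
  obtain ⟨y', hy'⟩ := surjective_pt s' y ⟨n, hny⟩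
  have hyn : pt y'.1 = n := congrArg Subtype.val hy'
  obtain ⟨e₁, e₂⟩ := hN₁ hn
  have step : geomSum q₀ U (fun a => w (h (pullback.fst f' g a))) y =
      geomSum q' U' (fun a => w (pullback.fst f gk (a₁ a))) y'.1 := by
    conv_lhs => rw [← y'.2, ← geomSum_preimage _ h']
    congr 1
    funext a
    show w (h (pullback.fst f' g (a' a))) = w (pullback.fst f gk (a₁ a))
    rw [← Scheme.Hom.comp_apply, ← Scheme.Hom.comp_apply, ← Scheme.Hom.comp_apply a₁,
      pullback.lift_fst]
  rw [step, e₁ K y'.1 hyn]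
  exact finsum_mem_congr rfl fun x hx => e₂ x hx K y'.1 hyn

end Groth.Agent.WtLim
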